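import Mathlib.Algebra.Algebra.Epi
import Mathlib.RingTheory.TensorProduct.Basic
import Mathlib.RingTheory.Flat.FaithfullyFlat.Basic
import Mathlib.LinearAlgebra.FreeModule.Basic
import Mathlib.LinearAlgebra.Basis.VectorSpace

/-!
# Helper lemmas on epimorphisms of commutative rings (helper5)
-/

set_option autoImplicit false

namespace Groth.Agent.Lib.Helper5

open TensorProduct

universe u v w

/-- Base change of an epimorphism of commutative rings is an epimorphism. -/
theorem isEpi_baseChange (R : Type u) (S : Type v) (A : Type w) [CommRing R] [CommRing S] [CommRing A]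
    [Algebra R S] [Algebra R A] [Algebra.IsEpi R S] : Algebra.IsEpi A (A ⊗[R] S) := by
  rw [Algebra.isEpi_iff_forall_one_tmul_eq]
  -- the two maps `S → (A ⊗ S) ⊗[A] (A ⊗ S)`
  let T := (A ⊗[R] S) ⊗[A] (A ⊗[R] S)
  let g₁ : S →ₐ[R] T :=
    ((Algebra.TensorProduct.includeLeft : (A ⊗[R] S) →ₐ[A] T).restrictScalars R).comp
      (Algebra.TensorProduct.includeRight : S →ₐ[R] A ⊗[R] S)
  let g₂ : S →ₐ[R] T :=
    ((Algebra.TensorProduct.includeRight : (A ⊗[R] S) →ₐ[A] T).restrictScalars R).comp
      (Algebra.TensorProduct.includeRight : S →ₐ[R] A ⊗[R] S)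
  let F : S ⊗[R] S →ₐ[R] T := Algebra.TensorProduct.lift g₁ g₂ (fun _ _ => Commute.all _ _)
  have key : ∀ s : S, (1 : A ⊗[R] S) ⊗ₜ[A] ((1 : A) ⊗ₜ[R] s) = ((1 : A) ⊗ₜ[R] s) ⊗ₜ[A] (1 : A ⊗[R] S) := by
    intro s
    have h := congrArg F ((Algebra.isEpi_iff_forall_one_tmul_eq R S).1 inferInstance s)
    simp only [F, g₁, g₂, Algebra.TensorProduct.lift_tmul, AlgHom.comp_apply, map_one,
      AlgHom.restrictScalars_apply, Algebra.TensorProduct.includeRight_apply,
      Algebra.TensorProduct.includeLeft_apply, one_mul, mul_one] at h
    rw [Algebra.TensorProduct.one_def] at h ⊢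
    exact h
  intro x
  induction x using TensorProduct.induction_on with
  | zero => simp
  | tmul a s =>
    have h1 : a ⊗ₜ[R] s = a • ((1 : A) ⊗ₜ[R] s) := by
      rw [TensorProduct.smul_tmul', smul_eq_mul, mul_one]
    rw [h1, TensorProduct.tmul_smul, key s, TensorProduct.smul_tmul']
  | add x y hx hy => rw [TensorProduct.tmul_add, TensorProduct.add_tmul, hx, hy]

/-- A faithfully flat epimorphism of commutative rings is bijective. -/
theorem bijective_of_faithfullyFlat_of_isEpi (R : Type u) (S : Type v) [CommRing R] [CommRing S]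
    [Algebra R S] [Module.FaithfullyFlat R S] [Algebra.IsEpi R S] :
    Function.Bijective (algebraMap R S) := by
  have hμi : Function.Injective (TensorProduct.lift (LinearMap.mul R S)) :=
    Algebra.IsEpi.injective_lift_mul
  have hcomp : (TensorProduct.lift (LinearMap.mul R S)) ∘ₗ ((Algebra.linearMap R S).lTensor S) =
      (TensorProduct.rid R S).toLinearMap := by
    ext s
    simp
  have hbij : Function.Bijective ((Algebra.linearMap R S).lTensor S) := by
    constructor
    · have h1 : Function.Injective ((TensorProduct.lift (LinearMap.mul R S)) ∘ₗ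
          ((Algebra.linearMap R S).lTensor S)) := by
        rw [hcomp]; exact (TensorProduct.rid R S).injective
      exact Function.Injective.of_comp (f := TensorProduct.lift (LinearMap.mul R S)) h1
    · intro y
      obtain ⟨x, hx⟩ := (TensorProduct.rid R S).surjective (TensorProduct.lift (LinearMap.mul R S) y)
      refine ⟨x, hμi ?_⟩
      have := congrArg (fun g => g x) hcomp
      simp only [LinearMap.coe_comp, Function.comp_apply] at this
      rw [this]
      exact hx
  exact (Module.FaithfullyFlat.lTensor_bijective_iff_bijective R S (Algebra.linearMap R S)).1 hbij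

/-- An epimorphism out of a field is zero or bijective. -/
theorem isEpi_field (k : Type u) (S : Type v) [Field k] [CommRing S] [Algebra k S] [Algebra.IsEpi k S] :
    Subsingleton S ∨ Function.Bijective (algebraMap k S) := by
  rcases subsingleton_or_nontrivial S with h | h
  · exact Or.inl h
  · right
    have : Module.Free k S := Module.Free.of_divisionRing k S
    exact bijective_of_faithfullyFlat_of_isEpi k S

/-- If `R → S` is epi, two `R`-algebra maps out of `S` into a commutative ring agree. -/
theorem algHom_eq_of_isEpi {R : Type u} {S : Type v} {T : Type w} [CommRing R] [CommRing S] [CommRing T]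
    [Algebra R S] [Algebra R T] [Algebra.IsEpi R S] (f g : S →ₐ[R] T) : f = g := by
  ext s
  have h := congrArg (Algebra.TensorProduct.lift f g (fun _ _ => Commute.all _ _))
    ((Algebra.isEpi_iff_forall_one_tmul_eq R S).1 inferInstance s)
  simpa using h.symm

/-- The image of an epi under a surjective algebra map is epi. -/
theorem isEpi_of_surjective_algHom {A : Type u} {T : Type v} {B : Type w} [CommRing A] [CommRing T]
    [CommRing B] [Algebra A T] [Algebra A B] [Algebra.IsEpi A T] (f : T →ₐ[A] B)
    (hf : Function.Surjective f) : Algebra.IsEpi A B := by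
  rw [Algebra.isEpi_iff_forall_one_tmul_eq]
  intro b
  obtain ⟨t, rfl⟩ := hf b
  have h := congrArg (Algebra.TensorProduct.map f f)
    ((Algebra.isEpi_iff_forall_one_tmul_eq A T).1 inferInstance t)
  simpa using h

end Groth.Agent.Lib.Helper5
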