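import Mathlib.CategoryTheory.Abelian.GrothendieckCategory.EnoughInjectives

/-!
# Functorial injective embeddings in Grothendieck abelian categories (helper5)

Mathlib's proof of "enough injectives" uses the (functorial) small object argument; this file
just records the functoriality.
-/

set_option autoImplicit false

universe w v u

namespace Groth.Agent.Lib.Helper5

open CategoryTheory CategoryTheory.Limits ZeroObject

/-- Every Grothendieck abelian category has functorial injective embeddings. -/
theorem exists_functorial_injective_embedding (A : Type u) [Category.{v} A] [Abelian A]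
    [IsGrothendieckAbelian.{w} A] :
    ∃ (J : A ⥤ A) (j : 𝟭 A ⟶ J), ∀ X : A, Injective (J.obj X) ∧ Mono (j.app X) := by
  let data := MorphismProperty.functorialFactorizationData
    (MorphismProperty.monomorphisms A) (MorphismProperty.monomorphisms A).rlp
  let toArrow : A ⥤ Arrow A :=
    { obj := fun X => Arrow.mk (0 : X ⟶ 0)
      map := fun {X Y} f => Arrow.homMk f (𝟙 0) (by simp)
      map_id := by intro X; ext <;> simp
      map_comp := by intro X Y Z f g; ext <;> simp }
  refine ⟨toArrow ⋙ data.Z, Functor.whiskerLeft toArrow data.i, fun X => ⟨?_, ?_⟩⟩
  · exact (inferInstance :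
      Injective (IsGrothendieckAbelian.monoMapFactorizationDataRlp (0 : X ⟶ 0)).Z)
  · exact (inferInstance : Mono (IsGrothendieckAbelian.monoMapFactorizationDataRlp (0 : X ⟶ 0)).i)

end Groth.Agent.Lib.Helper5
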